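import Mathlib
import Cfsg.Agent.S0199
import Cfsg.Agent.S0204
import Cfsg.Agent.S3116
import Cfsg.Agent.Lib.Fusion90.MetacyclicTwoGroups

/-!
# Simple groups with self-centralizing non-cyclic subgroups are CIT-groups
-/

set_option autoImplicit false

namespace Cfsg.Agent.Lib.SelfCentNoncyclic

open Subgroup

/-- Every non-cyclic subgroup contains its centralizer. -/
def SCNC (G : Type*) [Group G] : Prop :=
  ∀ H : Subgroup G, ¬ IsCyclic ↥H → centralizer (H : Set G) ≤ H

variable {G : Type*} [Group G] [Finite G]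

theorem not_isCyclic_of_two_involutions {H : Subgroup G} {a b : G} (ha : a ∈ H) (hb : b ∈ H)
    (ha2 : a * a = 1) (hb2 : b * b = 1) (ha1 : a ≠ 1) (hb1 : b ≠ 1) (hab : a ≠ b) :
    ¬ IsCyclic ↥H := fun hc => by
  classical
  have := Fintype.ofFinite ↥H
  have hle := hc.card_pow_eq_one_le (n := 2) two_pos
  have hsub : ({1, ⟨a, ha⟩, ⟨b, hb⟩} : Finset ↥H) ⊆ (Finset.univ.filter fun x : ↥H => x ^ 2 = 1) := by
    intro x hx
    simp only [Finset.mem_insert, Finset.mem_singleton] at hx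
    rw [Finset.mem_filter]
    refine ⟨Finset.mem_univ _, ?_⟩
    rcases hx with rfl | rfl | rfl
    · simp
    · exact Subtype.ext (by simp [pow_two, ha2])
    · exact Subtype.ext (by simp [pow_two, hb2])
  have h3 : ({1, ⟨a, ha⟩, ⟨b, hb⟩} : Finset ↥H).card = 3 := by
    rw [Finset.card_eq_three]
    exact ⟨_, _, _, fun h => ha1 (congrArg Subtype.val h).symm,
      fun h => hb1 (congrArg Subtype.val h).symm, fun h => hab (congrArg Subtype.val h), rfl⟩
  have := (Finset.card_le_card hsub).trans hle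
  omega

omit [Finite G] in
/-- In a group with self-centralizing non-cyclic subgroups no involution commutes with an involution
and a non-trivial element of odd order inverted by it. -/
theorem inverted_absurd (h : SCNC G) {z u y : G} (hz2 : z * z = 1) (hz1 : z ≠ 1) (hu2 : u * u = 1)
    {m : ℕ} (hm : Odd m) (hy : orderOf y = m) (hy1 : y ≠ 1)
    (huy : u * y * u⁻¹ = y⁻¹) (hzu : Commute z u) (hzy : Commute z y) : False := by
  have hym : y ^ m = 1 := hy ▸ pow_orderOf_eq_one y
  have hnc : ¬ Commute u y := by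
    intro hc
    have e : y = y⁻¹ := by rw [← huy, hc.eq, mul_inv_cancel_right]
    have e2 : y * y = 1 := by nth_rewrite 2 [e]; exact mul_inv_cancel y
    obtain ⟨t, rfl⟩ := hm
    rw [pow_succ, pow_mul, pow_two, e2, one_pow, one_mul] at hym
    exact hy1 hym
  have huinv : u⁻¹ = u := inv_eq_of_mul_eq_one_right hu2
  have hswap : ∀ i : ℤ, u * y ^ i = y ^ (-i) * u := by
    intro i
    have := congrArg (· ^ i) huy
    simp only [conj_zpow, inv_zpow'] at this
    rw [← this, mul_assoc _ u⁻¹, inv_mul_cancel, mul_one]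
  let H : Subgroup G :=
    { carrier := {w | ∃ i : ℤ, w = y ^ i ∨ w = y ^ i * u}
      one_mem' := ⟨0, Or.inl (zpow_zero y).symm⟩
      mul_mem' := by
        rintro a b ⟨i, rfl | rfl⟩ ⟨j, rfl | rfl⟩
        · exact ⟨i + j, Or.inl (zpow_add y i j).symm⟩
        · exact ⟨i + j, Or.inr (by rw [zpow_add, mul_assoc])⟩
        · exact ⟨i - j, Or.inr (by rw [mul_assoc, hswap, ← mul_assoc, sub_eq_add_neg, zpow_add])⟩
        · refine ⟨i - j, Or.inl ?_⟩
          rw [mul_assoc, ← mul_assoc u, hswap, mul_assoc, hu2, mul_one, sub_eq_add_neg, zpow_add]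
      inv_mem' := by
        rintro a ⟨i, rfl | rfl⟩
        · exact ⟨-i, Or.inl (zpow_neg y i).symm⟩
        · refine ⟨i, Or.inr ?_⟩
          rw [mul_inv_rev, huinv, ← zpow_neg, hswap, neg_neg] }
  have huH : u ∈ H := ⟨0, Or.inr (by simp)⟩
  have hyH : y ∈ H := ⟨1, Or.inl (zpow_one y).symm⟩
  have hncyc : ¬ IsCyclic ↥H := fun hc => by
    have := hc.commGroup.mul_comm (⟨u, huH⟩ : H) ⟨y, hyH⟩
    exact hnc (congrArg Subtype.val this)
  obtain ⟨i, hi | hi⟩ : z ∈ H := h H hncyc (by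
    rintro w ⟨i, rfl | rfl⟩
    · exact ((hzy.zpow_right i).symm).eq
    · exact (((hzy.zpow_right i).mul_right hzu).symm).eq)
  · have hzm : z ^ m = 1 := by rw [hi, ← zpow_natCast, zpow_comm, zpow_natCast, hym, one_zpow]
    obtain ⟨t, rfl⟩ := hm
    rw [pow_succ, pow_mul, pow_two, hz2, one_pow, one_mul] at hzm
    exact hz1 hzm
  · apply hnc
    have : u = y ^ (-i) * z := by rw [hi, ← mul_assoc, ← zpow_add, neg_add_cancel, zpow_zero, one_mul]
    rw [this]
    exact (Commute.zpow_left (Commute.refl y) _).mul_left hzy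

/-- A two-group generated by two involutions is recognised by the order of their product. -/
theorem isPGroup_sup_zpowers {X : Type*} [Group X] {u v : X} (hu2 : u * u = 1) (hv2 : v * v = 1)
    {k : ℕ} (hk : (u * v) ^ 2 ^ k = 1) : IsPGroup 2 ↥(zpowers u ⊔ zpowers v) := by
  set x := u * v with hx
  have huinv : u⁻¹ = u := inv_eq_of_mul_eq_one_right hu2
  have hvinv : v⁻¹ = v := inv_eq_of_mul_eq_one_right hv2
  have hux : u * x * u⁻¹ = x⁻¹ := by
    rw [hx, ← mul_assoc, hu2, one_mul, huinv, mul_inv_rev, hvinv, huinv]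
  have hswap : ∀ i : ℤ, u * x ^ i = x ^ (-i) * u := by
    intro i
    have := congrArg (· ^ i) hux
    simp only [conj_zpow, inv_zpow'] at this
    rw [← this, mul_assoc _ u⁻¹, inv_mul_cancel, mul_one]
  let H : Subgroup X :=
    { carrier := {w | ∃ i : ℤ, w = x ^ i ∨ w = x ^ i * u}
      one_mem' := ⟨0, Or.inl (zpow_zero x).symm⟩
      mul_mem' := by
        rintro a b ⟨i, rfl | rfl⟩ ⟨j, rfl | rfl⟩
        · exact ⟨i + j, Or.inl (zpow_add x i j).symm⟩
        · exact ⟨i + j, Or.inr (by rw [zpow_add, mul_assoc])⟩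
        · exact ⟨i - j, Or.inr (by rw [mul_assoc, hswap, ← mul_assoc, sub_eq_add_neg, zpow_add])⟩
        · refine ⟨i - j, Or.inl ?_⟩
          rw [mul_assoc, ← mul_assoc u, hswap, mul_assoc, hu2, mul_one, sub_eq_add_neg, zpow_add]
      inv_mem' := by
        rintro a ⟨i, rfl | rfl⟩
        · exact ⟨-i, Or.inl (zpow_neg x i).symm⟩
        · refine ⟨i, Or.inr ?_⟩
          rw [mul_inv_rev, huinv, ← zpow_neg, hswap, neg_neg] }
  have hle : zpowers u ⊔ zpowers v ≤ H :=
    sup_le (zpowers_le.2 ⟨0, Or.inr (by simp)⟩)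
      (zpowers_le.2 ⟨-1, Or.inr (by simp [hx, huinv, hvinv, mul_assoc, hu2])⟩)
  intro w
  obtain ⟨i, hi | hi⟩ := hle w.2
  · refine ⟨k, Subtype.ext ?_⟩
    rw [SubmonoidClass.coe_pow, hi, ← zpow_natCast, zpow_comm, zpow_natCast, hk, one_zpow]
    rfl
  · refine ⟨1, Subtype.ext ?_⟩
    rw [SubmonoidClass.coe_pow, hi, pow_one, pow_two, mul_assoc, ← mul_assoc u, hswap,
      mul_assoc, hu2, mul_one, ← zpow_add, add_neg_cancel, zpow_zero]
    rfl

/-- An odd-order element normalising an elementary abelian `2`-group with more than two elements and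
centralising an involution in it. -/
theorem elementary_absurd (h : SCNC G) {E : Subgroup G} (hE2 : ∀ e ∈ E, e * e = 1)
    (hnc : ¬ IsCyclic ↥E) {z y : G} (hzE : z ∈ E) (hz1 : z ≠ 1) (hzy : Commute z y)
    (hnorm : ∀ e ∈ E, y * e * y⁻¹ ∈ E) {m : ℕ} (hm : Odd m) (hy : orderOf y = m) (hy1 : y ≠ 1) :
    False := by
  have hym : y ^ m = 1 := hy ▸ pow_orderOf_eq_one y
  have hcomm : ∀ a ∈ E, ∀ b ∈ E, a * b = b * a := fun a ha b hb =>
    Cfsg.Agent.Lib.Fusion90.commute_of_sq hE2 ha hb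
  have hinv : ∀ a ∈ E, a⁻¹ = a := fun a ha => inv_eq_of_mul_eq_one_right (hE2 a ha)
  have key : ∀ e ∈ E, y * (e * (y * e * y⁻¹)) * y⁻¹ = e * (y * e * y⁻¹) →
      e * (y * e * y⁻¹) = 1 := by
    intro e he hfix
    set e0 := e * (y * e * y⁻¹) with he0
    have he0E : e0 ∈ E := E.mul_mem he (hnorm e he)
    have h1 : y * e * y⁻¹ = e * e0 := by rw [he0, ← mul_assoc e, hE2 e he, one_mul]
    have hit : ∀ n : ℕ, y ^ n * e * (y ^ n)⁻¹ = e * e0 ^ n := by
      intro n
      induction n with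
      | zero => simp
      | succ n ih =>
        have hpow : y * e0 ^ n * y⁻¹ = e0 ^ n := by rw [← conj_pow, hfix]
        calc y ^ (n + 1) * e * (y ^ (n + 1))⁻¹ = y * (y ^ n * e * (y ^ n)⁻¹) * y⁻¹ := by
              rw [pow_succ']; group
          _ = (y * e * y⁻¹) * (y * e0 ^ n * y⁻¹) := by rw [ih]; group
          _ = e * e0 ^ (n + 1) := by rw [h1, hpow, mul_assoc, ← pow_succ']
    have := hit m
    rw [hym, one_mul, inv_one, mul_one, left_eq_mul] at this
    obtain ⟨t, rfl⟩ := hm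
    rwa [pow_succ, pow_mul, pow_two, hE2 e0 he0E, one_pow, one_mul] at this
  by_cases hall : ∀ e ∈ E, e * (y * e * y⁻¹) = 1
  · have hyC : y ∈ centralizer (E : Set G) := by
      rw [mem_centralizer_iff]
      intro e he
      have h1 : y * e * y⁻¹ = e := by
        rw [← inv_eq_of_mul_eq_one_right (hall e he), hinv e he]
      calc e * y = y * e * y⁻¹ * y := by rw [h1]
        _ = y * e := inv_mul_cancel_right _ _
    have := hE2 y (h E hnc hyC)
    obtain ⟨t, rfl⟩ := hm
    rw [pow_succ, pow_mul, pow_two, this, one_pow, one_mul] at hym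
    exact hy1 hym
  obtain ⟨e, he, hne⟩ : ∃ e ∈ E, e * (y * e * y⁻¹) ≠ 1 := by
    by_contra hc
    exact hall fun e he => by_contra fun h' => hc ⟨e, he, h'⟩
  set φ : G → G := fun e => e * (y * e * y⁻¹) with hφ
  have φE : ∀ a ∈ E, φ a ∈ E := fun a ha => E.mul_mem ha (hnorm a ha)
  have φmul : ∀ a ∈ E, ∀ b ∈ E, φ (a * b) = φ a * φ b := by
    intro a ha b hb
    simp only [hφ]
    rw [show y * (a * b) * y⁻¹ = (y * a * y⁻¹) * (y * b * y⁻¹) by group]
    have := hcomm b hb _ (hnorm a ha)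
    calc a * b * (y * a * y⁻¹ * (y * b * y⁻¹)) = a * (b * (y * a * y⁻¹)) * (y * b * y⁻¹) := by
          group
      _ = a * ((y * a * y⁻¹) * b) * (y * b * y⁻¹) := by rw [this]
      _ = _ := by group
  have φconj : ∀ a : G, y * φ a * y⁻¹ = φ (y * a * y⁻¹) := fun a => by simp only [hφ]; group
  set e0 := φ e with he0
  set e1 := y * e0 * y⁻¹ with he1
  have he0E : e0 ∈ E := φE e he
  have he1E : e1 ∈ E := hnorm _ he0E
  have h01 : e0 ≠ e1 := fun hc => hne (key e he hc.symm)
  have he11 : e1 ≠ 1 := fun hc => hne (conj_eq_one_iff.1 hc)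
  let F : Subgroup G :=
    { carrier := {w | ∃ a ∈ E, w = φ a}
      one_mem' := ⟨1, E.one_mem, by simp [hφ]⟩
      mul_mem' := by
        rintro a b ⟨a', ha', rfl⟩ ⟨b', hb', rfl⟩
        exact ⟨a' * b', E.mul_mem ha' hb', (φmul _ ha' _ hb').symm⟩
      inv_mem' := by
        rintro a ⟨a', ha', rfl⟩
        exact ⟨a', ha', hinv _ (φE _ ha')⟩ }
  have hFnc : ¬ IsCyclic ↥F := not_isCyclic_of_two_involutions (a := e0) (b := e1) ⟨e, he, rfl⟩
    ⟨_, hnorm e he, φconj e⟩ (hE2 _ he0E) (hE2 _ he1E) hne he11 h01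
  obtain ⟨a, ha, hza⟩ : z ∈ F := h F hFnc (by
    rintro w ⟨a, ha, rfl⟩
    exact hcomm _ (φE a ha) z hzE)
  apply hz1
  rw [hza]
  refine key a ha ?_
  change y * φ a * y⁻¹ = φ a
  rw [← hza, ← hzy.eq, mul_inv_cancel_right]

/-- The centralizer of an involution is a `2`-group. -/
theorem isPGroup_centralizer (h : SCNC G) [IsSimpleGroup G] (hna : ¬ IsCyclic G) {z : G}
    (hz : orderOf z = 2) : IsPGroup 2 ↥(centralizer ({z} : Set G)) := by
  have : Fact (Nat.Prime 2) := ⟨Nat.prime_two⟩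
  set C := centralizer ({z} : Set G) with hC
  have hz2 : z * z = 1 := by rw [← pow_two, ← hz]; exact pow_orderOf_eq_one z
  have hz1 : z ≠ 1 := fun e => by simp [e] at hz
  have hzC : z ∈ C := mem_centralizer_singleton_iff.2 rfl
  have hzc : ∀ {w : G}, w ∈ C → Commute z w := fun hw => (mem_centralizer_singleton_iff.1 hw).symm
  by_contra hP
  -- an element of odd order
  obtain ⟨y, hy1, m, hm, hy⟩ : ∃ y : C, y ≠ 1 ∧ ∃ m, Odd m ∧ orderOf y = m := by
    by_contra hc
    apply hP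
    refine IsPGroup.iff_card.2 ?_
    refine ⟨_, Nat.eq_prime_pow_of_unique_prime_dvd Nat.card_pos.ne' fun {p} hp hd => ?_⟩
    by_contra hp2
    have := Fact.mk hp
    obtain ⟨y, hy⟩ := exists_prime_orderOf_dvd_card' (G := C) p hd
    exact hc ⟨y, fun e => hp.ne_one (by rw [← hy, e, orderOf_one]), p,
      hp.odd_of_ne_two hp2, hy⟩
  obtain ⟨P⟩ : Nonempty (Sylow 2 C) := inferInstance
  set W := (P : Subgroup C).normalCore with hW
  have hWP : IsPGroup 2 W := P.2.to_le (normalCore_le _)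
  have hNW : ∀ N : Subgroup C, N.Normal → IsPGroup 2 N → N ≤ W := by
    intro N hN hN2
    rw [hW, normal_le_normalCore (hN := hN)]
    have hsup : IsPGroup 2 ↥((P : Subgroup C) ⊔ N) := by
      have := hN
      exact P.2.to_sup_of_normal_right hN2
    rw [← P.3 hsup le_sup_left]
    exact le_sup_right
  have hinvW : ∀ u : C, u * u = 1 → u ∈ W := by
    intro u hu2
    have hXP : IsPGroup 2 ↥(zpowers u) := fun w => ⟨1, by
      obtain ⟨i, hi⟩ := mem_zpowers_iff.1 w.2
      refine Subtype.ext ?_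
      rw [SubmonoidClass.coe_pow, ← hi, pow_one, ← zpow_natCast, zpow_comm, zpow_natCast,
        pow_two, hu2, one_zpow]
      rfl⟩
    by_cases hall : ∀ g : C, IsPGroup 2
        ↥(zpowers u ⊔ (zpowers u).map (MulAut.conj g).toMonoidHom)
    · obtain ⟨N, hN, hN2, hXN⟩ := Cfsg.Agent.S0199.result (zpowers u) hXP hall
      exact hNW N hN hN2 (hXN (mem_zpowers u))
    exfalso
    obtain ⟨g, hg⟩ := not_forall.1 hall
    rw [MonoidHom.map_zpowers] at hg
    set v : C := (MulAut.conj g).toMonoidHom u with hv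
    have hv2 : v * v = 1 := by rw [hv, ← map_mul, hu2, map_one]
    obtain ⟨k, r, hr, hkr⟩ :=
      Nat.exists_eq_pow_mul_and_not_dvd (orderOf_pos (u * v)).ne' 2 (by norm_num)
    have hr1 : r ≠ 1 := by
      rintro rfl
      rw [mul_one] at hkr
      exact hg (isPGroup_sup_zpowers hu2 hv2 (k := k) (hkr ▸ pow_orderOf_eq_one _))
    set w : C := (u * v) ^ 2 ^ k with hw
    have hwo : orderOf w = r := by
      rw [hw, orderOf_pow_of_dvd (by positivity) (hkr ▸ dvd_mul_right _ _), hkr,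
        Nat.mul_div_cancel_left _ (by positivity)]
    have huw : u * w * u⁻¹ = w⁻¹ := by
      rw [hw, ← conj_pow, ← inv_pow]
      congr 1
      rw [← mul_assoc, hu2, one_mul, mul_inv_rev, inv_eq_of_mul_eq_one_right hu2,
        inv_eq_of_mul_eq_one_right hv2]
    exact inverted_absurd h (z := z) (u := (u : G)) (y := (w : G)) hz2 hz1
      (m := r) (by rw [← Subgroup.coe_mul, hu2]; rfl) (Nat.odd_iff.2 (by omega))
      (by rw [Subgroup.orderOf_coe, hwo])
      (fun e => hr1 (by rw [← hwo, (Subtype.ext e : w = 1), orderOf_one]))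
      (congrArg Subtype.val huw) (hzc u.2) (hzc w.2)
  -- the group E of central involutions of W
  set zc : C := ⟨z, hzC⟩ with hzcdef
  have hzW : zc ∈ W := hinvW _ (Subtype.ext hz2)
  have hzWc : ∀ w ∈ W, w * zc = zc * w := fun w _ => Subtype.ext (hzc w.2).eq.symm
  let E : Subgroup G :=
    { carrier := {e | ∃ w : C, (w : G) = e ∧ w ∈ W ∧ w * w = 1 ∧ ∀ x ∈ W, x * w = w * x}
      one_mem' := ⟨1, rfl, W.one_mem, by simp, by simp⟩
      mul_mem' := by
        rintro a b ⟨a', rfl, haW, ha2, hac⟩ ⟨b', rfl, hbW, hb2, hbc⟩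
        refine ⟨a' * b', rfl, W.mul_mem haW hbW, ?_, fun x hx => ?_⟩
        · calc a' * b' * (a' * b') = a' * (b' * a') * b' := by group
            _ = (a' * a') * (b' * b') := by rw [hac b' hbW]; group
            _ = 1 := by rw [ha2, hb2, one_mul]
        · rw [← mul_assoc, hac x hx, mul_assoc, hbc x hx, ← mul_assoc]
      inv_mem' := by
        rintro a ⟨a', rfl, haW, ha2, hac⟩
        refine ⟨a', ?_, haW, ha2, hac⟩
        exact (inv_eq_of_mul_eq_one_right (congrArg Subtype.val ha2 : (a' : G) * a' = 1)).symm }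
  have hzE : z ∈ E := ⟨zc, rfl, hzW, Subtype.ext hz2, hzWc⟩
  have hE2 : ∀ e ∈ E, e * e = 1 := by
    rintro _ ⟨w, rfl, -, hw2, -⟩
    exact congrArg Subtype.val hw2
  have hWn : W.Normal := normalCore_normal _
  have hyE : ∀ e ∈ E, (y : G) * e * (y : G)⁻¹ ∈ E := by
    rintro _ ⟨w, rfl, hwW, hw2, hwc⟩
    refine ⟨y * w * y⁻¹, rfl, hWn.conj_mem _ hwW y, ?_, fun x hx => ?_⟩
    · rw [← pow_two, conj_pow, pow_two, hw2]; group
    · have := hwc (y⁻¹ * x * y) (hWn.conj_mem' x hx y)
      calc x * (y * w * y⁻¹) = y * ((y⁻¹ * x * y) * w) * y⁻¹ := by group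
        _ = _ := by rw [this]; group
  have hyo : orderOf (y : G) = m := by rw [Subgroup.orderOf_coe, hy]
  have hy1' : (y : G) ≠ 1 := fun e => hy1 (Subtype.ext e)
  by_cases hEz : ∃ e ∈ E, e ≠ 1 ∧ e ≠ z
  · obtain ⟨e, he, he1, hez⟩ := hEz
    have hnc := not_isCyclic_of_two_involutions he hzE (hE2 e he) hz2 he1 hz1 hez
    exact elementary_absurd h hE2 hnc hzE hz1 (hzc y.2) hyE hm hyo hy1'
  by_cases hu : ∃ u : C, u * u = 1 ∧ (u : G) ≠ 1 ∧ (u : G) ≠ z
  · obtain ⟨u, hu2, hu1, huz⟩ := hu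
    have huW := hinvW u hu2
    have hu2' : (u : G) * u = 1 := congrArg Subtype.val hu2
    have huzc : zc * u = u * zc := Subtype.ext (hzc u.2).eq
    -- the four group
    let Q : Subgroup ↥W :=
      { carrier := {a | a = 1 ∨ a = ⟨u, huW⟩ ∨ a = ⟨zc, hzW⟩ ∨ a = ⟨u, huW⟩ * ⟨zc, hzW⟩}
        one_mem' := Or.inl rfl
        mul_mem' := by
          have a1 : (⟨u, huW⟩ : W) * ⟨u, huW⟩ = 1 := Subtype.ext hu2
          have a2 : (⟨zc, hzW⟩ : W) * ⟨zc, hzW⟩ = 1 := Subtype.ext (Subtype.ext hz2)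
          have a3 : (⟨zc, hzW⟩ : W) * ⟨u, huW⟩ = ⟨u, huW⟩ * ⟨zc, hzW⟩ := Subtype.ext huzc
          generalize (⟨u, huW⟩ : W) = U at a1 a3 ⊢
          generalize (⟨zc, hzW⟩ : W) = Z at a2 a3 ⊢
          have a4 : ∀ x : W, Z * (U * x) = U * (Z * x) := fun x => by
            rw [← mul_assoc, a3, mul_assoc]
          have a1' : ∀ x : W, U * (U * x) = x := fun x => by rw [← mul_assoc, a1, one_mul]
          have a2' : ∀ x : W, Z * (Z * x) = x := fun x => by rw [← mul_assoc, a2, one_mul]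
          rintro a b (rfl | rfl | rfl | rfl) (rfl | rfl | rfl | rfl) <;>
            simp [mul_assoc, a1, a2, a3, a4, a1']
        inv_mem' := by
          have a1 : (⟨u, huW⟩ : W) * ⟨u, huW⟩ = 1 := Subtype.ext hu2
          have a2 : (⟨zc, hzW⟩ : W) * ⟨zc, hzW⟩ = 1 := Subtype.ext (Subtype.ext hz2)
          have a3 : (⟨zc, hzW⟩ : W) * ⟨u, huW⟩ = ⟨u, huW⟩ * ⟨zc, hzW⟩ := Subtype.ext huzc
          generalize (⟨u, huW⟩ : W) = U at a1 a3 ⊢
          generalize (⟨zc, hzW⟩ : W) = Z at a2 a3 ⊢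
          rintro a (rfl | rfl | rfl | rfl) <;>
            simp [inv_eq_of_mul_eq_one_right a1, inv_eq_of_mul_eq_one_right a2, a3] }
    have hQ2 : ∀ q ∈ Q, q * q = 1 := by
      rintro q (rfl | rfl | rfl | rfl)
      · simp
      · exact Subtype.ext hu2
      · exact Subtype.ext (Subtype.ext hz2)
      · refine Subtype.ext ?_
        show u * zc * (u * zc) = 1
        rw [mul_assoc, ← mul_assoc zc, huzc, mul_assoc, show zc * zc = 1 from Subtype.ext hz2,
          mul_one, hu2]
    let toG : ↥W →* G := C.subtype.comp W.subtype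
    have htoG : Function.Injective toG := C.subtype_injective.comp W.subtype_injective
    have hQc : Nat.card Q = 4 := by
      classical
      have hset : (Q : Set W) = ({1, ⟨u, huW⟩, ⟨zc, hzW⟩, ⟨u, huW⟩ * ⟨zc, hzW⟩} : Finset W) := by
        simp only [Finset.coe_insert, Finset.coe_singleton]
        rfl
      rw [← SetLike.coe_sort_coe, hset, Nat.card_coe_set_eq, Set.ncard_coe_finset]
      rw [Finset.card_eq_four]
      refine ⟨_, _, _, _, ?_, ?_, ?_, ?_, ?_, ?_, rfl⟩ <;> intro e <;>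
        have e' := congrArg toG e <;> simp [toG, zc] at e'
      all_goals first
        | exact hu1 e'
        | exact hz1 e'
        | exact huz e'
        | exact hu1 e'.symm
        | exact hz1 e'.symm
        | exact hu1 (congrArg Subtype.val e')
        | exact hu1 (congrArg Subtype.val e'.symm)
        | exact huz (congrArg Subtype.val e')
        | (rw [eq_comm, mul_eq_one_iff_eq_inv, inv_eq_of_mul_eq_one_right hz2] at e'
           exact huz e')
    have hVnc : ¬ IsCyclic ↥(Q.map toG) := not_isCyclic_of_two_involutions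
      (a := (u : G)) (b := z) ⟨⟨u, huW⟩, Or.inr (Or.inl rfl), rfl⟩
      ⟨⟨zc, hzW⟩, Or.inr (Or.inr (Or.inl rfl)), rfl⟩ hu2' hz2 hu1 hz1 huz
    have hCQ : centralizer (Q : Set W) ≤ Q := by
      intro w hw
      have : toG w ∈ Q.map toG := h _ hVnc (by
        rintro _ ⟨q, hq, rfl⟩
        rw [← map_mul, ← map_mul, mem_centralizer_iff.1 hw q hq])
      obtain ⟨q, hq, e⟩ := this
      exact htoG e ▸ hq
    have hucen : (⟨u, huW⟩ : W) ∉ center W := by
      intro hc
      exact hEz ⟨u, ⟨u, rfl, huW, hu2, fun x hx =>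
        congrArg Subtype.val (mem_center_iff.1 hc ⟨x, hx⟩)⟩, hu1, huz⟩
    have hA : IsPGroup 2 (MulAut ↥W) := by
      refine Cfsg.Agent.S3116.result hWP ?_
      rcases Cfsg.Agent.Lib.Fusion90.dihedral_of_four hWP Q hQc hQ2 hCQ
        (x := ⟨u, huW⟩) (Or.inr (Or.inl rfl)) hucen with ⟨n, ⟨e⟩⟩ | hq
      · refine Or.inl ⟨n, ?_, ⟨e⟩⟩
        have hcard : Nat.card W = 2 * n := by rw [Nat.card_congr e.toEquiv, DihedralGroup.nat_card]
        obtain ⟨a, ha⟩ := IsPGroup.iff_card.1 hWP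
        by_contra hn
        rw [not_le] at hn
        apply hucen
        have hn3 : n ≠ 3 := by
          rintro rfl
          rw [ha] at hcard
          rcases a with - | - | - | a <;> simp [pow_succ] at hcard <;> omega
        have hpos : 0 < Nat.card W := Nat.card_pos
        interval_cases n
        all_goals try omega
        all_goals
          refine mem_center_iff.2 fun x => e.injective ?_
          simp only [map_mul]
          generalize e x = a
          generalize e ⟨u, huW⟩ = b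
          revert a b
          decide
      · exact Or.inr hq
    -- y acts trivially on W
    have hφ : MulAut.conjNormal (H := W) y = 1 := by
      obtain ⟨j, hj⟩ := hA (MulAut.conjNormal (H := W) y)
      rw [← orderOf_eq_one_iff]
      refine Nat.eq_one_of_dvd_coprimes ((Nat.coprime_two_left.2 hm).pow_left j)
        (orderOf_dvd_of_pow_eq_one hj) (orderOf_dvd_of_pow_eq_one ?_)
      rw [← map_pow, ← hy, pow_orderOf_eq_one, map_one]
    have hyV : (y : G) ∈ Q.map toG := h _ hVnc (by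
      rintro _ ⟨q, -, rfl⟩
      have h1 : ((MulAut.conjNormal (H := W) y q : W) : C) = (q : C) := by rw [hφ]; rfl
      rw [MulAut.conjNormal_apply, mul_inv_eq_iff_eq_mul] at h1
      exact (congrArg Subtype.val h1).symm)
    obtain ⟨q, hq, hqy⟩ := hyV
    have hy2 : (y : G) * y = 1 := by rw [← hqy, ← map_mul, hQ2 q hq, map_one]
    have hym : (y : G) ^ m = 1 := hyo ▸ pow_orderOf_eq_one _
    obtain ⟨t, rfl⟩ := hm
    rw [pow_succ, pow_mul, pow_two, hy2, one_pow, one_mul] at hym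
    exact hy1' hym
  -- z is the only involution of C
  obtain ⟨E', hE'⟩ := Cfsg.Agent.S0204.result hna
  obtain ⟨R, hR⟩ := (IsPGroup.of_card (p := 2) (G := ↥(zpowers z)) (n := 1)
    (by rw [Nat.card_zpowers, hz, pow_one])).exists_le_sylow
  have : Nontrivial ↥(R : Subgroup G) :=
    ⟨⟨z, hR (mem_zpowers z)⟩, 1, fun e => hz1 (congrArg Subtype.val e)⟩
  have := R.2.center_nontrivial
  obtain ⟨k, hk0, hk⟩ := (R.2.to_subgroup (center R)).nontrivial_iff_card.1 inferInstance
  obtain ⟨⟨⟨c, hcR⟩, hcc⟩, hco⟩ := exists_prime_orderOf_dvd_card' (G := center R) 2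
    (hk ▸ dvd_pow_self 2 hk0.ne')
  rw [← Subgroup.orderOf_coe, ← Subgroup.orderOf_coe] at hco
  have hc1 : c ≠ 1 := fun e => by simp [e] at hco
  have hc2 : c * c = 1 := by rw [← pow_two, ← hco]; exact pow_orderOf_eq_one c
  have hcz : c = z := by
    have hcC : c ∈ C := mem_centralizer_singleton_iff.2
      (congrArg Subtype.val (mem_center_iff.1 hcc ⟨z, hR (mem_zpowers z)⟩)).symm
    by_contra hne
    exact hu ⟨⟨c, hcC⟩, Subtype.ext hc2, hc1, hne⟩
  subst hcz
  have hRC : (R : Subgroup G) ≤ C := fun w hw => mem_centralizer_singleton_iff.2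
    (congrArg Subtype.val (mem_center_iff.1 hcc ⟨w, hw⟩))
  obtain ⟨R', hR'⟩ := (IsPGroup.of_card (p := 2) (G := ↥E') (n := 2)
    (by rw [hE'.card_four]; rfl)).exists_le_sylow
  obtain ⟨g, hg⟩ := MulAction.exists_smul_eq G R' R
  have hsub : ∀ e ∈ E', g * e * g⁻¹ ∈ C := fun e he => hRC (by
    rw [← hg]
    exact (Subgroup.mem_pointwise_smul_iff_inv_smul_mem.2 (by
      simp [MulAut.smul_def, mul_assoc]
      exact hR' he)))
  have hsq : ∀ e ∈ E', e * e = 1 := fun e he =>
    congrArg Subtype.val (IsKleinFour.mul_self (⟨e, he⟩ : E'))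
  have hall : ∀ e ∈ E', e ≠ 1 → g * e * g⁻¹ = c := by
    intro e he he1
    by_contra hne
    refine hu ⟨⟨_, hsub e he⟩, Subtype.ext ?_, ?_, hne⟩
    · show g * e * g⁻¹ * (g * e * g⁻¹) = 1
      rw [← pow_two, conj_pow, pow_two, hsq e he, mul_one, mul_inv_cancel]
    · exact fun e' => he1 (conj_eq_one_iff.1 e')
  have hE'nc : ¬ IsCyclic ↥E' := IsKleinFour.not_isCyclic
  apply hE'nc
  by_cases hE'b : ∀ e ∈ E', e = 1
  · have : Subsingleton ↥E' := ⟨fun a b => Subtype.ext ((hE'b _ a.2).trans (hE'b _ b.2).symm)⟩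
    infer_instance
  obtain ⟨e, he, he1⟩ : ∃ e ∈ E', e ≠ 1 := by
    by_contra hc
    exact hE'b fun e he => by_contra fun h' => hc ⟨e, he, h'⟩
  refine ⟨⟨⟨e, he⟩, fun a => ?_⟩⟩
  by_cases ha : (a : G) = 1
  · exact ⟨0, Subtype.ext (by simp [ha])⟩
  · refine ⟨1, Subtype.ext ?_⟩
    simp only [zpow_one]
    have := (hall e he he1).trans (hall _ a.2 ha).symm
    exact mul_left_cancel (mul_right_cancel this)

end Cfsg.Agent.Lib.SelfCentNoncyclic
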