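import Mathlib
import Cfsg.Agent.Lib.SL2.ClassSizes
import Cfsg.Agent.Lib.SL2.SylowTwo
import Cfsg.Agent.Lib.SelfCentNoncyclic.CIT

/-!
# Self-centralizing non-cyclic subgroups in `PSL₂(q)`
-/

set_option autoImplicit false

namespace Cfsg.Agent.Lib.SelfCentNoncyclic

open Subgroup Cfsg.Agent.Lib.SL2

variable {F : Type*} [Field F] [Fintype F]

/-- An involution of `PSL₂(q)`, `q` odd, lifts to an element of trace zero. -/
theorem exists_lift_tr_zero (h2 : (2 : F) ≠ 0) {x : PSLtwo F} (hx : x * x = 1) (hx1 : x ≠ 1) :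
    ∃ g : SLtwo F, proj g = x ∧ tr g = 0 := by
  obtain ⟨g, rfl⟩ := proj_surjective x
  refine ⟨g, rfl, ?_⟩
  have hc : g * g ∈ center (SLtwo F) := by rw [← proj_eq_one_iff, map_mul, hx]
  rcases (mem_center_iff_eq _).1 hc with e | e
  · exact absurd (proj_eq_one_iff.2 (mem_center_of_mul_self h2 e)) hx1
  · have hm := congrArg Subtype.val e
    simp only [Matrix.SpecialLinearGroup.coe_mul, Matrix.SpecialLinearGroup.coe_neg,
      Matrix.SpecialLinearGroup.coe_one] at hm
    rw [cayley_hamilton] at hm
    by_contra ht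
    apply hx1
    rw [proj_eq_one_iff, mem_center_iff_entries]
    have h00 := congrFun (congrFun hm 0) 0
    have h01 := congrFun (congrFun hm 0) 1
    have h10 := congrFun (congrFun hm 1) 0
    have h11 := congrFun (congrFun hm 1) 1
    simp [ht] at h00 h01 h10 h11
    exact absurd (show tr g = 0 by rw [tr, h00, h11, add_zero]) ht

/-- The centralizer of an involution of `PSL₂(q)`, `q` odd. -/
theorem card_centralizer_involution (h2 : (2 : F) ≠ 0) {g : SLtwo F} (ht : tr g = 0) :
    (Fintype.card F % 4 = 1 ∧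
        Nat.card (centralizer ({proj g} : Set (PSLtwo F))) = Fintype.card F - 1) ∨
      (Fintype.card F % 4 = 3 ∧
        Nat.card (centralizer ({proj g} : Set (PSLtwo F))) = Fintype.card F + 1) := by
  have hodd := Nat.odd_iff.1 (two_ne_zero_iff_odd.1 h2)
  have hd : Nat.gcd 2 (Fintype.card F - 1) = 2 := Nat.gcd_eq_left (by omega)
  have hT := card_torus_mul (g := g)
  rw [hd, mul_comm] at hT
  rw [card_centralizer_proj_zero h2 ht, hT]
  rcases elliptic_or_split_or_parabolic g with h | h | h | h
  · refine Or.inr ⟨?_, card_centralizer_elliptic h⟩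
    by_contra h'
    obtain ⟨l, hl⟩ := FiniteField.isSquare_neg_one_iff.2 (show Fintype.card F % 4 ≠ 3 from h')
    exact h l (by rw [ht]; linear_combination -hl)
  · refine Or.inl ⟨?_, card_centralizer_split h⟩
    obtain ⟨l, hl, -⟩ := h
    have hsq : IsSquare (-1 : F) := ⟨l, by rw [ht] at hl; linear_combination -hl⟩
    have := FiniteField.isSquare_neg_one_iff.1 hsq
    omega
  · exact absurd (ht.symm.trans h).symm h2
  · exact absurd (neg_eq_zero.1 (ht.symm.trans h).symm) h2

/-- Self-centralizing non-cyclic subgroups of `PSL₂(q)`. -/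
theorem psl_selfCentralizing
    (hq : (Fintype.card F).Prime ∨ ∃ p, p.Prime ∧ Fintype.card F = p ^ 2)
    (hodd : (2 : F) ≠ 0 → (Fintype.card F % 4 = 1 → ∃ a, Fintype.card F - 1 = 2 ^ a) ∧
      (Fintype.card F % 4 = 3 → ∃ a, Fintype.card F + 1 = 2 ^ a))
    (H : Subgroup (PSLtwo F)) (hH : ¬ IsCyclic ↥H) :
    centralizer (H : Set (PSLtwo F)) ≤ H := by
  have : Fact (Nat.Prime 2) := ⟨Nat.prime_two⟩
  intro c hc
  rcases eq_or_ne c 1 with rfl | hc1
  · exact H.one_mem
  have hle : H ≤ centralizer ({c} : Set (PSLtwo F)) := fun w hw =>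
    mem_centralizer_singleton_iff.2 (mem_centralizer_iff.1 hc w hw)
  obtain ⟨g, rfl⟩ := proj_surjective c
  have hg : g ∉ center (SLtwo F) := notMem_center_of_proj_ne hc1
  rcases semi_or_unip (proj g) with hs | hu
  · by_cases hcase : (2 : F) = 0 ∨ tr g ≠ 0
    · rw [centralizer_proj_eq hg hcase] at hle
      have := isCyclic_torus_semi hs
      exact absurd (isCyclic_of_le hle) hH
    rw [not_or, not_not] at hcase
    obtain ⟨h2, ht⟩ := hcase
    have hK2 : ∃ a, Nat.card (centralizer ({proj g} : Set (PSLtwo F))) = 2 ^ a := by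
      rcases card_centralizer_involution h2 ht with ⟨h4, h⟩ | ⟨h4, h⟩
      · rw [h]; exact (hodd h2).1 h4
      · rw [h]; exact (hodd h2).2 h4
    obtain ⟨a, ha⟩ := hK2
    set K := centralizer ({proj g} : Set (PSLtwo F)) with hKdef
    have hTK : torus (proj g) ≤ K := torus_le_centralizer hg
    have hK : Nat.card K = 2 * Nat.card (torus (proj g)) := card_centralizer_proj_zero h2 ht
    have this_cyc := isCyclic_torus_semi hs
    have hne : torus (proj g) ⊓ H ≠ ⊥ := by
      intro hbot
      have h1 : (torus (proj g)).relIndex K = 2 := by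
        have := relIndex_mul_relIndex ⊥ _ _ bot_le hTK
        rw [relIndex_bot_left, relIndex_bot_left, hK, mul_comm] at this
        exact Nat.eq_of_mul_eq_mul_right Nat.card_pos this
      have h2' : Nat.card H ≤ 2 := by
        rw [← relIndex_bot_left, ← hbot, inf_relIndex_right]
        exact (relIndex_le_of_le_right hle (by rw [h1]; norm_num)).trans h1.le
      apply hH
      have hpos : 0 < Nat.card H := Nat.card_pos
      interval_cases hcard : Nat.card H
      · have : Subsingleton ↥H := (Nat.card_eq_one_iff_unique.1 hcard).1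
        infer_instance
      · exact isCyclic_of_prime_card hcard
    have hTp : IsPGroup 2 ↥(torus (proj g)) := by
      obtain ⟨b, -, hb⟩ := (Nat.dvd_prime_pow Nat.prime_two).1
        (ha ▸ (hK ▸ dvd_mul_left _ _) : Nat.card (torus (proj g)) ∣ 2 ^ a)
      exact IsPGroup.of_card hb
    have hIp : IsPGroup 2 ↥(torus (proj g) ⊓ H : Subgroup (PSLtwo F)) := hTp.to_le inf_le_left
    have := (Subgroup.nontrivial_iff_ne_bot _).2 hne
    obtain ⟨k, hk0, hk⟩ := hIp.nontrivial_iff_card.1 inferInstance
    obtain ⟨⟨w, hwT, hwH⟩, hwo⟩ := exists_prime_orderOf_dvd_card'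
      (G := ↥(torus (proj g) ⊓ H : Subgroup (PSLtwo F))) 2 (hk ▸ dvd_pow_self 2 hk0.ne')
    rw [← Subgroup.orderOf_coe] at hwo
    change orderOf w = 2 at hwo
    have hw2 : w * w = 1 := by have h' := pow_orderOf_eq_one w; rwa [hwo, pow_two] at h'
    have hw1 : w ≠ 1 := fun e => by simp [e] at hwo
    have hc2 : proj g * proj g = 1 := by
      rw [← map_mul, mul_self_of_tr_zero ht, proj_neg, map_one]
    have hwc : w = proj g := by
      by_contra hne'
      exact not_isCyclic_of_two_involutions hwT (mem_torus_self _) hw2 hc2 hw1 hc1 hne' this_cyc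
    rwa [← hwc]
  · obtain ⟨g', hg', htr⟩ := hu
    have hcase : (2 : F) = 0 ∨ tr g ≠ 0 := by
      by_cases h2 : (2 : F) = 0
      · exact Or.inl h2
      refine Or.inr ?_
      rcases proj_eq_proj_iff.1 hg' with e | e <;> rw [e]
      · rw [htr]; exact h2
      · rw [tr_neg, htr, neg_ne_zero]; exact h2
    rw [centralizer_proj_eq hg hcase] at hle
    have hT := card_torus_unip ⟨g', hg', htr⟩ hc1
    have hdvd := Subgroup.card_dvd_of_le hle
    rw [hT] at hdvd
    have hHq : Nat.card H = Fintype.card F := by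
      by_contra hne
      apply hH
      rcases hq with hp | ⟨p, hp, hq⟩
      · rcases (Nat.dvd_prime hp).1 hdvd with h1 | h1
        · have : Subsingleton ↥H := (Nat.card_eq_one_iff_unique.1 h1).1
          infer_instance
        · exact absurd h1 hne
      · rw [hq] at hdvd
        obtain ⟨j, hj, hj'⟩ := (Nat.dvd_prime_pow hp).1 hdvd
        have := Fact.mk hp
        interval_cases j
        · have : Subsingleton ↥H := (Nat.card_eq_one_iff_unique.1 (by simpa using hj')).1
          infer_instance
        · exact isCyclic_of_prime_card (p := p) (by simpa using hj')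
        · exact absurd (hj'.trans hq.symm) hne
    have : H = torus (proj g) := Subgroup.eq_of_le_of_card_ge hle (by rw [hT, hHq])
    rw [this]
    exact mem_torus_self _

end Cfsg.Agent.Lib.SelfCentNoncyclic
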